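import Mathlib

/-! Counting pairs (quadratic form, degree-n form) over a finite field by the value of the resultant. -/

set_option autoImplicit false

universe u

open Polynomial

namespace Groth.Agent.ResCount

variable {F : Type u} [Field F]

/-- The polynomial of a coefficient vector. -/
noncomputable def pol {n : ℕ} (G : Fin (n + 1) → F) : F[X] :=
  ∑ j : Fin (n + 1), C (G j) * X ^ (j : ℕ)

theorem natDegree_pol {n : ℕ} (G : Fin (n + 1) → F) : (pol G).natDegree ≤ n :=
  natDegree_sum_le_of_forall_le _ _ fun j _ =>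
    (natDegree_C_mul_X_pow_le _ _).trans (Nat.le_of_lt_succ j.2)

theorem coeff_pol {n : ℕ} (G : Fin (n + 1) → F) (j : Fin (n + 1)) : (pol G).coeff j = G j := by
  simp [pol, coeff_C_mul_X_pow, Fin.val_inj]

theorem pol_injective {n : ℕ} {G G' : Fin (n + 1) → F} (h : pol G = pol G') : G = G' :=
  funext fun j => by rw [← coeff_pol G j, ← coeff_pol G' j, h]

/-- A quadratic polynomial. -/
noncomputable def quad (a b c : F) : F[X] := C a * X ^ 2 + C b * X + C c

theorem natDegree_quad (a b c : F) : (quad a b c).natDegree ≤ 2 := natDegree_quadratic_le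

theorem resultant_quad_linear (a b c u v : F) :
    resultant (quad a b c) (C u * X + C v) 2 1 = a * v ^ 2 - b * u * v + c * u ^ 2 := by
  rw [resultant, Matrix.det_fin_three]
  simp [sylvester, quad, Fin.addCases, coeff_C, coeff_X, coeff_X_pow]
  ring

variable (P : F → Prop)

open Classical in
/-- Indicator of the prescribed set of values. -/
noncomputable def χ (x : F) : ℕ := if P x then 1 else 0

variable [Fintype F]

/-- The size of the prescribed set of values. -/
noncomputable def π : ℕ := ∑ x, χ P x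

theorem χ_zero (hP : ¬ P 0) : χ P 0 = 0 := by simp [χ, hP]

theorem sum_affine {α : F} (hα : α ≠ 0) (β : F) : ∑ x, χ P (α * x + β) = π P :=
  Equiv.sum_comp ((Equiv.mulLeft₀ α hα).trans (Equiv.addRight β)) (χ P)

theorem sum_scale {α : F} (hα : α ≠ 0) : ∑ x, χ P (α * x) = π P := by
  simpa using sum_affine P hα 0

/-- The corner count. -/
noncomputable def K (n : ℕ) : ℕ := ∑ a : F, ∑ v : F, χ P (a ^ n * v ^ 2)

theorem card_ne (x : F) [DecidableEq F] : (Finset.univ.erase x).card = Fintype.card F - 1 := by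
  rw [Finset.card_erase_of_mem (Finset.mem_univ _), Finset.card_univ]

/-- Division with remainder on coefficient vectors. -/
theorem sum_of_quad {m : ℕ} {a : F} (ha : a ≠ 0) (b c : F) :
    ∑ G : Fin (m + 2 + 1) → F, χ P (resultant (quad a b c) (pol G) 2 (m + 2)) =
      Fintype.card F ^ (m + 1) * ∑ u : F, ∑ v : F, χ P (a ^ (m + 1) * (a * v ^ 2 - b * u * v + c * u ^ 2)) := by
  classical
  let f := quad a b c
  let Φ : (F × F) × (Fin (m + 1) → F) → (Fin (m + 2 + 1) → F) :=
    fun x j => (C x.1.1 * X + C x.1.2 + f * pol x.2).coeff j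
  have hdeg : ∀ x : (F × F) × (Fin (m + 1) → F),
      (C x.1.1 * X + C x.1.2 + f * pol x.2).natDegree ≤ m + 2 := fun x =>
    natDegree_add_le_of_degree_le ((natDegree_linear_le).trans (by omega))
      ((natDegree_mul_le).trans (by have := natDegree_quad a b c; have := natDegree_pol x.2; simp only [f]; omega))
  have hΦ : ∀ x, pol (Φ x) = C x.1.1 * X + C x.1.2 + f * pol x.2 := fun x => by
    ext j
    by_cases hj : j < m + 2 + 1
    · exact coeff_pol (Φ x) ⟨j, hj⟩
    · rw [coeff_eq_zero_of_natDegree_lt (by have := natDegree_pol (Φ x); omega),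
        coeff_eq_zero_of_natDegree_lt (by have := hdeg x; omega)]
  have hf2 : f.natDegree = 2 := natDegree_quadratic ha
  have hinj : Function.Injective Φ := by
    rintro ⟨⟨u, v⟩, p⟩ ⟨⟨u', v'⟩, p'⟩ h
    have h' := congrArg pol h
    rw [hΦ, hΦ] at h'
    have e : f * (pol p - pol p') = C (u' - u) * X + C (v' - v) := by
      simp only [map_sub]; linear_combination h'
    have hp : pol p = pol p' := by
      by_contra hne
      have h1 : (f * (pol p - pol p')).natDegree ≥ 2 := by
        rw [natDegree_mul (fun h0 => by simp [h0] at hf2) (sub_ne_zero.mpr hne), hf2]; omega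
      have h2 : (C (u' - u) * X + C (v' - v)).natDegree ≤ 1 := natDegree_linear_le
      rw [e] at h1; omega
    rw [hp, sub_self, mul_zero] at e
    have hu := congrArg (fun q => coeff q 1) e.symm
    have hv := congrArg (fun q => coeff q 0) e.symm
    simp [sub_eq_zero] at hu hv
    simp [hu, hv, pol_injective hp]
  have hcard : Fintype.card ((F × F) × (Fin (m + 1) → F)) = Fintype.card (Fin (m + 2 + 1) → F) := by
    simp [Fintype.card_prod, Fintype.card_fun, pow_succ]; ring
  have hbij : Function.Bijective Φ := (Fintype.bijective_iff_injective_and_card Φ).mpr ⟨hinj, hcard⟩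
  have hres : ∀ x : (F × F) × (Fin (m + 1) → F), resultant (quad a b c) (pol (Φ x)) 2 (m + 2) =
      a ^ (m + 1) * (a * x.1.2 ^ 2 - b * x.1.1 * x.1.2 + c * x.1.1 ^ 2) := fun x => by
    rw [hΦ, resultant_add_mul_right _ _ _ _ _ (by have := natDegree_pol x.2; omega) (natDegree_quad a b c),
      show m + 2 = 1 + (m + 1) by omega, resultant_add_right_deg _ _ _ _ _ natDegree_linear_le,
      resultant_quad_linear]
    simp [quad, coeff_X, coeff_C, coeff_X_pow]
  rw [← Equiv.sum_comp (Equiv.ofBijective Φ hbij)]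
  refine (Finset.sum_congr rfl fun x _ => congrArg (χ P) (hres x)).trans ?_
  rw [Fintype.sum_prod_type, Fintype.sum_prod_type, Finset.mul_sum]
  refine Finset.sum_congr rfl fun u _ => ?_
  rw [Finset.mul_sum]
  exact Finset.sum_congr rfl fun v _ => by simp

theorem sum_top (m : ℕ) (a : F) (ha : a ≠ 0) :
    ∑ b : F, ∑ c : F, ∑ G : Fin (m + 2 + 1) → F, χ P (resultant (quad a b c) (pol G) 2 (m + 2)) =
      Fintype.card F ^ (m + 1) * ((Fintype.card F - 1) * Fintype.card F ^ 2 * π P +
        Fintype.card F ^ 2 * ∑ v : F, χ P (a ^ (m + 2) * v ^ 2)) := by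
  classical
  simp only [sum_of_quad P ha, ← Finset.mul_sum]
  congr 1
  rw [Finset.sum_congr rfl fun b _ => Finset.sum_comm]
  rw [Finset.sum_comm, ← Finset.add_sum_erase _ _ (Finset.mem_univ (0 : F)), add_comm]
  congr 1
  · have h : ∀ u ∈ (Finset.univ : Finset F).erase 0, ∑ b : F, ∑ c : F, ∑ v : F,
        χ P (a ^ (m + 1) * (a * v ^ 2 - b * u * v + c * u ^ 2)) = Fintype.card F ^ 2 * π P := by
      intro u hu
      have hu0 := Finset.ne_of_mem_erase hu
      rw [Finset.sum_congr rfl fun b _ => Finset.sum_comm]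
      have : ∀ b v : F, ∑ c : F, χ P (a ^ (m + 1) * (a * v ^ 2 - b * u * v + c * u ^ 2)) = π P := fun b v => by
        rw [← sum_affine P (mul_ne_zero (pow_ne_zero (m + 1) ha) (pow_ne_zero 2 hu0))
          (a ^ (m + 1) * (a * v ^ 2 - b * u * v))]
        exact Finset.sum_congr rfl fun c _ => congrArg (χ P) (by ring)
      simp only [this]
      simp [sq, mul_assoc]
    rw [Finset.sum_congr rfl h, Finset.sum_const, card_ne, smul_eq_mul, mul_assoc]
  · simp [sq, pow_succ, mul_assoc, Finset.mul_sum, Finset.sum_const]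

theorem sum_bot (m : ℕ) (hP : ¬ P 0) {b : F} (hb : b ≠ 0) (c : F) :
    ∑ G : Fin (m + 2 + 1) → F, χ P (resultant (quad 0 b c) (pol G) 2 (m + 2)) =
      Fintype.card F ^ (m + 1) * (Fintype.card F - 1) * π P := by
  classical
  have hval : ∀ G : Fin (m + 2 + 1) → F, resultant (quad 0 b c) (pol G) 2 (m + 2) =
      (-1) ^ (m + 2) * G (Fin.last _) * (b ^ (m + 2) * (pol G).eval (-(c / b))) := fun G => by
    rw [show resultant (quad 0 b c) (pol G) 2 (m + 2) = _ from
        resultant_succ_left_deg (quad 0 b c) (pol G) 1 (m + 2) (by simpa [quad] using natDegree_linear_le (a := b) (b := c)),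
      show quad 0 b c = C b * (X - C (-(c / b))) by
        rw [quad, mul_sub, ← C_mul, mul_neg, mul_div_cancel₀ c hb]; simp,
      resultant_C_mul_left, resultant_X_sub_C_left _ _ _ (natDegree_pol G), ← coeff_pol G (Fin.last _)]
    rfl
  simp only [hval]
  rw [← Equiv.sum_comp (Fin.consEquiv fun _ : Fin (m + 2 + 1) => F), Fintype.sum_prod_type, Finset.sum_comm,
    ← Equiv.sum_comp (Fin.snocEquiv fun _ : Fin (m + 2) => F), Fintype.sum_prod_type,
    ← Finset.add_sum_erase _ _ (Finset.mem_univ (0 : F))]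
  have hlast : ∀ (g0 t : F) (R : Fin (m + 1) → F),
      (Fin.cons g0 (Fin.snoc R t) : Fin (m + 2 + 1) → F) (Fin.last _) = t := fun g0 t R => by
    rw [show Fin.last (m + 2) = (Fin.last (m + 1)).succ from rfl, Fin.cons_succ, Fin.snoc_last]
  have hev : ∀ (g0 t r : F) (R : Fin (m + 1) → F),
      (pol (Fin.cons g0 (Fin.snoc R t) : Fin (m + 2 + 1) → F)).eval r =
        g0 + (pol (Fin.cons 0 (Fin.snoc R t) : Fin (m + 2 + 1) → F)).eval r := fun g0 t r R => by
    simp [pol, Fin.sum_univ_succ, eval_finset_sum, add_assoc]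
  simp only [Fin.consEquiv, Fin.snocEquiv, Equiv.coe_fn_mk, hlast]
  have h : ∀ t ∈ (Finset.univ : Finset F).erase 0, ∑ R : Fin (m + 1) → F, ∑ g0 : F,
      χ P ((-1) ^ (m + 2) * t * (b ^ (m + 2) *
        (pol (Fin.cons g0 (Fin.snoc R t) : Fin (m + 2 + 1) → F)).eval (-(c / b)))) =
      Fintype.card F ^ (m + 1) * π P := by
    intro t ht
    have ht0 := Finset.ne_of_mem_erase ht
    have : ∀ R : Fin (m + 1) → F, ∑ g0 : F, χ P ((-1) ^ (m + 2) * t * (b ^ (m + 2) *
        (pol (Fin.cons g0 (Fin.snoc R t) : Fin (m + 2 + 1) → F)).eval (-(c / b)))) = π P := fun R => by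
      have hα : (-1) ^ (m + 2) * t * b ^ (m + 2) ≠ 0 :=
        mul_ne_zero (mul_ne_zero (pow_ne_zero _ (neg_ne_zero.mpr one_ne_zero)) ht0) (pow_ne_zero _ hb)
      rw [← sum_affine P hα ((-1) ^ (m + 2) * t * b ^ (m + 2) *
        (pol (Fin.cons 0 (Fin.snoc R t) : Fin (m + 2 + 1) → F)).eval (-(c / b)))]
      refine Finset.sum_congr rfl fun g0 _ => congrArg (χ P) ?_
      rw [hev]; ring
    simp [this]
  rw [Finset.sum_congr rfl h]
  simp [χ_zero P hP, card_ne, mul_comm, mul_left_comm, mul_assoc]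

theorem sum_const (m : ℕ) (c : F) :
    ∑ G : Fin (m + 2 + 1) → F, χ P (resultant (quad 0 0 c) (pol G) 2 (m + 2)) =
      Fintype.card F ^ (m + 2) * ∑ t : F, χ P (c ^ (m + 2) * t ^ 2) := by
  classical
  have hval : ∀ G : Fin (m + 2 + 1) → F, resultant (quad 0 0 c) (pol G) 2 (m + 2) =
      c ^ (m + 2) * G (Fin.last _) ^ 2 := fun G => by
    rw [show quad 0 0 c = C c by simp [quad], resultant_C_left, ← coeff_pol G (Fin.last _)]
    simp [pow_mul, mul_comm]
  simp only [hval]
  rw [← Equiv.sum_comp (Fin.snocEquiv fun _ : Fin (m + 2 + 1) => F), Fintype.sum_prod_type, Finset.mul_sum]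
  simp [Finset.sum_const]

/-- The count, for any set of values avoiding zero. -/
theorem card_eq (m : ℕ) (hP : ¬ P 0) :
    Nat.card {p : (Fin 3 → F) × (Fin (m + 2 + 1) → F) //
      P (resultant (∑ i : Fin 3, C (p.1 i) * X ^ (i : ℕ))
        (∑ j : Fin (m + 2 + 1), C (p.2 j) * X ^ (j : ℕ)) 2 (m + 2))} =
      (Fintype.card F ^ (m + 3) + Fintype.card F ^ (m + 2)) *
        ((Fintype.card F - 1) ^ 2 * π P + K P (m + 2)) := by
  classical
  rw [Nat.card_eq_fintype_card, Fintype.card_subtype, Finset.card_filter]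
  show ∑ p : (Fin 3 → F) × (Fin (m + 2 + 1) → F), χ P (resultant (pol p.1) (pol p.2) 2 (m + 2)) = _
  let e : F × F × F ≃ (Fin 3 → F) :=
    { toFun := fun x => ![x.2.2, x.2.1, x.1]
      invFun := fun f => (f 2, f 1, f 0)
      left_inv := fun x => by simp
      right_inv := fun f => funext fun i => by fin_cases i <;> simp }
  have he : ∀ a b c, pol (e (a, b, c)) = quad a b c := fun a b c => by
    simp [e, pol, quad, Fin.sum_univ_three]; ring
  rw [Fintype.sum_prod_type, ← Equiv.sum_comp e, Fintype.sum_prod_type]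
  simp only [Fintype.sum_prod_type]
  refine (Finset.sum_congr rfl fun a _ => Finset.sum_congr rfl fun b _ => Finset.sum_congr rfl fun c _ =>
    Finset.sum_congr rfl fun G _ => congrArg (fun q => χ P (resultant q (pol G) 2 (m + 2))) (he a b c)).trans ?_
  rw [← Finset.add_sum_erase _ _ (Finset.mem_univ (0 : F))]
  rw [Finset.sum_congr rfl (fun a ha => sum_top P m a (Finset.ne_of_mem_erase ha))]
  have hbot : ∑ b : F, ∑ c : F, ∑ G : Fin (m + 2 + 1) → F, χ P (resultant (quad 0 b c) (pol G) 2 (m + 2)) =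
      Fintype.card F ^ (m + 2) * ((Fintype.card F - 1) ^ 2 * π P + K P (m + 2)) := by
    rw [← Finset.add_sum_erase _ _ (Finset.mem_univ (0 : F))]
    rw [Finset.sum_congr rfl (fun b hb => Finset.sum_congr rfl fun c _ => sum_bot P m hP (Finset.ne_of_mem_erase hb) c)]
    simp only [sum_const, ← Finset.mul_sum, Finset.sum_const, Finset.card_univ, card_ne, smul_eq_mul, K]
    ring
  rw [hbot]
  have hK : ∑ a ∈ (Finset.univ : Finset F).erase 0, ∑ v : F, χ P (a ^ (m + 2) * v ^ 2) = K P (m + 2) := by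
    refine Finset.sum_erase _ ?_
    simp [χ_zero P hP]
  simp only [← Finset.mul_sum, Finset.sum_add_distrib, hK, Finset.sum_const, card_ne, smul_eq_mul]
  ring

end Groth.Agent.ResCount
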